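import Groth.Agent.Lib.Euler.Coh
import Groth.Agent.Lib.QCoh.Support
import Groth.Agent.Lib.QCoh.Abelian
import Groth.Agent.Lib.QCoh.Coherent
import Groth.Agent.Lib.HomSh.QCoh
import Groth.Agent.Lib.Depth14.HartogsFlat
import Groth.Agent.Lib.HomSh.Criterion
import Groth.Agent.Lib.OX.Exact
import Groth.Agent.Lib.Depth.HartogsUnit
import Groth.Agent.Lib.FlatOff.DoubleDual
import Groth.Agent.Lib.FiniteQuot.DepthDescent
import Groth.Agent.Lib.FEt21.PunctSections
import Groth.Agent.Lib.QCoh.GenericPoint
import Mathlib.RingTheory.Flat.TorsionFree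
import Mathlib.RingTheory.DiscreteValuationRing.TFAE

/-!
# Reflexive hulls of finite type submodules of flat modules
-/

set_option autoImplicit false
set_option backward.isDefEq.respectTransparency false

universe u

open CategoryTheory CategoryTheory.Limits AlgebraicGeometry Opposite TopologicalSpace

namespace GrothLib.RefHull14

variable {X : Scheme.{u}}

theorem isQuasicoherent_free (I : Type u) :
    (SheafOfModules.free (R := X.ringCatSheaf) I : X.Modules).IsQuasicoherent := by
  let F : Discrete I ⥤ X.Modules := Discrete.functor fun _ => Coh.structureModule X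
  exact GrothLib.QCoh.isQuasicoherent_colimit F fun _ => inferInstanceAs (Coh.structureModule X).IsQuasicoherent

/-- A finite type submodule of a quasi-coherent module is quasi-coherent. -/
theorem isQuasicoherent_of_isFT_mono {A F : X.Modules} [A.IsQuasicoherent] (i : F ⟶ A) [Mono i]
    (hF : CohB1.IsFT F) : F.IsQuasicoherent := by
  choose W G hW hG using fun x => GrothLib.QCoh.exists_generatingSections_restrict F hF x
  refine GrothLib.QCoh.isQuasicoherent_of_restrict F W ?_ fun x => ?_
  · rw [IsOpenCover, eq_top_iff]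
    exact fun x _ => Opens.mem_iSup.2 ⟨x, hW x⟩
  · haveI := isQuasicoherent_free (X := (W x : Scheme.{u})) (G x).I
    let π : (SheafOfModules.free (G x).I : (W x : Scheme.{u}).Modules) ⟶ F.restrict (W x).ι := (G x).π
    haveI : Epi π := (G x).epi
    let j : F.restrict (W x).ι ⟶ A.restrict (W x).ι := (Scheme.Modules.restrictFunctor (W x).ι).map i
    haveI : Mono j := inferInstance
    haveI : (A.restrict (W x).ι).IsQuasicoherent := inferInstance
    haveI := GrothLib.QCoh.isQuasicoherent_image (π ≫ j)
    haveI : StrongEpi π := strongEpi_of_epi π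
    exact GrothLib.QCoh.isQuasicoherent_of_iso
      ((Abelian.imageIsoImage (π ≫ j)) ≪≫ (image.isoStrongEpiMono π j rfl).symm)

variable [IsLocallyNoetherian X]

theorem depth_dual {G : X.Modules} (hG : GrothLib.HomSh.HasRel G) (x : X)
    (h : (2 : ℕ∞) ≤ LocCoh.depth (X.presheaf.stalk x) (X.presheaf.stalk x)) :
    (2 : ℕ∞) ≤ LocCoh.depth (X.presheaf.stalk x) ((RefHull.dual G).presheaf.stalk x) := by
  let O := X.presheaf.stalk x
  haveI := hG.span_stalk x
  let E : (RefHull.dual G).presheaf.stalk x ≃ₗ[O] Module.Dual O (G.presheaf.stalk x) :=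
    (LinearEquiv.ofBijective _ (hG.evalStalk_bijective (Coh.structureModule X) x)).trans
      (LinearEquiv.congrRight (GrothLib.HomSh.unitStalk x).symm)
  have key := GrothLib.FlatOff.two_le_depth_dual (IsLocalRing.maximalIdeal O) h (G.presheaf.stalk x)
  unfold LocCoh.depth
  rw [GrothLib.FiniteQuot.idealDepth_congr (RingEquiv.refl O) E.toAddEquiv (fun r c => map_smul E r c)]
  exact (congrArg (fun I => LocCoh.idealDepth I (Module.Dual O (G.presheaf.stalk x)))
    (Ideal.map_id _)).ge.trans' key

theorem isFlatAt_of_dim_le_one (hX : Pi1.IsNormalScheme X) {A F : X.Modules} (hA : FlatMod.IsFlat A)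
    (i : F ⟶ A) [Mono i] (x : X) (hd : ringKrullDim (X.presheaf.stalk x) ≤ 1) : FlatMod.IsFlatAt F x := by
  have := (hX x).1
  have := (hX x).2
  haveI : Module.Flat (X.presheaf.stalk x) (A.presheaf.stalk x) := hA x
  haveI : Ring.KrullDimLE 1 (X.presheaf.stalk x) := Ring.krullDimLE_iff.mpr hd
  haveI : Ring.DimensionLEOne (X.presheaf.stalk x) :=
    ⟨fun hp0 hp => Ring.krullDimLE_one_iff_of_noZeroDivisors.mp inferInstance _ hp0 hp⟩
  haveI : IsDedekindDomain (X.presheaf.stalk x) :=
    { (inferInstance : IsNoetherianRing _), (inferInstance : Ring.DimensionLEOne _) with }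
  haveI : Module.IsTorsionFree (X.presheaf.stalk x) (F.presheaf.stalk x) :=
    Function.Injective.moduleIsTorsionFree (GrothLib.QCoh.stalkLin i x) (GrothLib.QCoh.stalkLin_injective i x)
      (fun r v => map_smul _ r v)
  show Module.Flat _ _
  infer_instance

theorem bijective_bidual_of_flat {F : X.Modules} (hF : GrothLib.HomSh.HasRel F) (x : X)
    (h : FlatMod.IsFlatAt F x) : Function.Bijective (GrothLib.QCoh.stalkLin (RefHull.bidualMap F) x) := by
  haveI : Module.Flat (X.presheaf.stalk x) (F.presheaf.stalk x) := h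
  haveI := hF.span_stalk x
  haveI : Module.Free (X.presheaf.stalk x) (F.presheaf.stalk x) := Module.free_of_flat_of_isLocalRing
  exact (GrothLib.HomSh.bijective_bidual_iff hF x).2
    (inferInstanceAs (Module.IsReflexive (X.presheaf.stalk x) (F.presheaf.stalk x)))

/-- The reflexive hull of a finite type submodule of a flat quasi-coherent module on a normal scheme
is the direct image of its restriction to its flatness locus. -/
theorem exists_ddual_iso (hX : Pi1.IsNormalScheme X) {A F : X.Modules} [A.IsQuasicoherent] (hA : FlatMod.IsFlat A)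
    (i : F ⟶ A) [Mono i] (hF : CohB1.IsFT F) (U : X.Opens) (hU : (U : Set X) = {s : X | FlatMod.IsFlatAt F s}) :
    ∃ e : RefHull.ddual F ≅ (Scheme.Modules.pushforward U.ι).obj (F.restrict U.ι),
      RefHull.bidualMap F ≫ e.hom = (Scheme.Modules.restrictAdjunction U.ι).unit.app F := by
  have hFc : Coh.IsCoh F := ⟨isQuasicoherent_of_isFT_mono i hF, hF⟩
  have hrel := GrothLib.HomSh.hasRel_of_isCoh hFc
  have hrel' := GrothLib.HomSh.hasRel_dual hrel
  have hD : Coh.IsCoh (RefHull.ddual F) := GrothLib.HomSh.isCoh_dual hrel'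
  haveI : (RefHull.ddual F).IsQuasicoherent := hD.1
  haveI : SheafOfModules.IsFiniteType.{u, u, u} (R := X.ringCatSheaf) (RefHull.ddual F) := hD.2
  let adj := Scheme.Modules.restrictAdjunction U.ι
  haveI : IsIso (adj.unit.app (RefHull.ddual F)) := GrothLib.Depth.isIso_unit_app fun x hx => by
    refine depth_dual hrel' x ?_
    have := (hX x).1
    have := (hX x).2
    refine GrothLib.FEt21.two_le_depth_of_normal _ ?_
    rcases lt_or_ge (ringKrullDim (X.presheaf.stalk x)) 2 with h | h
    · refine absurd (show x ∈ (U : Set X) from hU ▸ ?_) hx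
      exact isFlatAt_of_dim_le_one hX hA i x (Order.le_of_lt_succ (lt_of_lt_of_eq h rfl))
    · exact h
  haveI : IsIso ((Scheme.Modules.restrictFunctor U.ι).map (RefHull.bidualMap F)) := by
    rw [GrothLib.OX.isIso_iff]
    intro y
    have hy : FlatMod.IsFlatAt F y.1 := by
      have := y.2
      rwa [← SetLike.mem_coe, hU] at this
    have hb := bijective_bidual_of_flat hrel y.1 hy
    let N := Scheme.Modules.restrictStalkNatIso U.ι y
    let g := ((Scheme.Modules.restrictFunctor U.ι).map (RefHull.bidualMap F))
    haveI : IsIso ((Scheme.Modules.toPresheaf X ⋙ TopCat.Presheaf.stalkFunctor _ (U.ι y)).map (RefHull.bidualMap F)) :=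
      (ConcreteCategory.isIso_iff_bijective _).2 hb
    have h2 : IsIso ((Scheme.Modules.toPresheaf (U : Scheme) ⋙ TopCat.Presheaf.stalkFunctor _ y).map g) :=
      (NatIso.isIso_map_iff N (RefHull.bidualMap F)).2 inferInstance
    have h3 := (ConcreteCategory.isIso_iff_bijective _).1 h2
    exact (ConcreteCategory.isIso_iff_bijective _).2 h3
  refine ⟨asIso (adj.unit.app (RefHull.ddual F)) ≪≫ (Scheme.Modules.pushforward U.ι).mapIso
    (asIso ((Scheme.Modules.restrictFunctor U.ι).map (RefHull.bidualMap F))).symm, ?_⟩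
  simp only [Iso.trans_hom, Functor.mapIso_hom, Iso.symm_hom, asIso_inv, asIso_hom]
  have h := adj.unit.naturality (RefHull.bidualMap F)
  simp only [Functor.id_map, Functor.comp_map, Functor.id_obj] at h
  rw [← Category.assoc, h, Category.assoc, ← Functor.map_comp, IsIso.hom_inv_id]
  exact (congrArg _ (CategoryTheory.Functor.map_id _ _)).trans (Category.comp_id _)

end GrothLib.RefHull14
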